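import Mathlib.AlgebraicGeometry.ZariskisMainTheorem
import Mathlib.AlgebraicGeometry.Morphisms.FlatRank
import Mathlib.AlgebraicGeometry.Morphisms.UniversallyOpen
import Mathlib.AlgebraicGeometry.Morphisms.UniversallyInjective
import Mathlib.AlgebraicGeometry.Morphisms.FlatMono
import Mathlib.Topology.Sober

/-!
# Separated quasi-finite flat morphisms of generic rank at most one
-/

open CategoryTheory Limits AlgebraicGeometry

universe u

namespace Groth.Agent.QfRankOne

/-- Every point has a maximal generisation. -/
theorem exists_generic {S : Scheme.{u}} (y : S) : ∃ s : S, s ⤳ y ∧ ∀ t : S, t ⤳ s → t = s := by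
  let Z : irreducibleComponents S := ⟨irreducibleComponent y, irreducibleComponent_mem_irreducibleComponents y⟩
  let s := genericPoints.ofComponent Z
  have hs : closure {s.1} = irreducibleComponent y :=
    Z.2.1.isGenericPoint_genericPoint (isClosed_of_mem_irreducibleComponents Z.1 Z.2)
  refine ⟨s.1, ?_, fun t ht => ?_⟩
  · rw [specializes_iff_mem_closure, hs]; exact mem_irreducibleComponent
  · have h1 : closure {s.1} ⊆ closure {t} :=
      closure_minimal (Set.singleton_subset_iff.mpr (specializes_iff_mem_closure.mp ht)) isClosed_closure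
    have h2 : closure {t} ⊆ closure {s.1} := by
      rw [hs] at h1 ⊢
      exact (irreducibleComponent_mem_irreducibleComponents y).2 isIrreducible_singleton.closure h1
    exact (ht.antisymm (specializes_iff_mem_closure.mpr (h2 (subset_closure rfl)))).eq

theorem isOpenImmersion {T S : Scheme.{u}} (g : T ⟶ S) [LocallyQuasiFinite g]
    [LocallyOfFinitePresentation g] [QuasiCompact g] [IsSeparated g] [Flat g]
    (h : ∀ s : S, (∀ t : S, t ⤳ s → t = s) →
      IsEmpty ↑(pullback g (S.fromSpecResidueField s)) ∨ IsIso (pullback.snd g (S.fromSpecResidueField s))) :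
    IsOpenImmersion g := by
  have hiso : ∀ x : T, (∀ t : S, t ⤳ g x → t = g x) →
      IsIso (pullback.snd g (S.fromSpecResidueField (g x))) := fun x hx => by
    refine (h _ hx).resolve_left fun hE => ?_
    obtain ⟨z, -, -⟩ := Scheme.Pullback.exists_preimage_pullback (f := g)
      (g := S.fromSpecResidueField (g x)) x (IsLocalRing.closedPoint _)
      (Scheme.fromSpecResidueField_apply _ _).symm
    exact hE.false z
  -- universal injectivity
  haveI : UniversallyInjective g := by
    rw [UniversallyInjective.iff_diagonal]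
    refine ⟨fun z => ?_⟩
    let p := pullback.fst g g ≫ g
    obtain ⟨s, hsz, hs⟩ := exists_generic (p z)
    obtain ⟨z', hz', hpz'⟩ := Flat.generalizingMap p hsz
    refine (hz'.mem_closed (pullback.diagonal g).isClosedEmbedding.isClosed_range ?_ :)
    let φ := (pullback g g).fromSpecResidueField z'
    let g₁ := φ ≫ pullback.fst g g
    let g₂ := φ ≫ pullback.snd g g
    have e : g₁ ≫ g = g₂ ≫ g := by simp [g₁, g₂, pullback.condition]
    let x := pullback.fst g g z'
    have hgx : g x = s := by
      rw [← hpz', Scheme.Hom.comp_apply]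
    haveI := hiso x (hgx ▸ hs)
    have hmono : ∀ {W : Scheme.{u}} (a : W ⟶ Spec (S.residueField (g x))) (b₁ b₂ : W ⟶ T),
        b₁ ≫ g = a ≫ S.fromSpecResidueField (g x) → b₂ ≫ g = a ≫ S.fromSpecResidueField (g x) →
          b₁ = b₂ := fun a b₁ b₂ h₁ h₂ => by
      have e : pullback.lift b₁ a h₁ = pullback.lift b₂ a h₂ := by
        rw [← cancel_mono (pullback.snd g (S.fromSpecResidueField (g x)))]
        exact (pullback.lift_snd _ _ _).trans (pullback.lift_snd _ _ _).symm
      exact ((pullback.lift_fst _ _ _).symm.trans congr($e ≫ pullback.fst g _)).trans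
        (pullback.lift_fst _ _ _)
    have key : g₁ = g₂ := by
      have h₁ : φ ≫ pullback.fst g g =
          Spec.map ((pullback.fst g g).residueFieldMap z') ≫ T.fromSpecResidueField x :=
        ((pullback.fst g g).SpecMap_residueFieldMap_fromSpecResidueField z').symm
      have h₂ : g₁ ≫ g = (Spec.map ((pullback.fst g g).residueFieldMap z') ≫
          Spec.map (g.residueFieldMap x)) ≫ S.fromSpecResidueField (g x) := by
        exact (congrArg (· ≫ g) h₁).trans ((Category.assoc _ _ _).trans
          ((congrArg (_ ≫ ·) (g.SpecMap_residueFieldMap_fromSpecResidueField x).symm).trans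
            (Category.assoc _ _ _).symm))
      exact hmono _ g₁ g₂ h₂ (e.symm.trans h₂)
    refine ⟨g₁ (IsLocalRing.closedPoint _), ?_⟩
    rw [← Scheme.Hom.comp_apply, show g₁ ≫ pullback.diagonal g = φ from ?_,
      Scheme.fromSpecResidueField_apply]
    apply pullback.hom_ext
    · rw [Category.assoc, pullback.diagonal_fst, Category.comp_id]
    · rw [Category.assoc, pullback.diagonal_snd, Category.comp_id]; exact key
  -- the image
  let U : S.Opens := ⟨Set.range g, g.isOpenMap.isOpen_range⟩
  let g' : T ⟶ (U : Scheme) := IsOpenImmersion.lift U.ι g (by simp [U])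
  have hg' : g' ≫ U.ι = g := IsOpenImmersion.lift_fac _ _ _
  haveI : Surjective g' := ⟨fun ⟨y, hy⟩ => by
    obtain ⟨t, rfl⟩ := hy
    exact ⟨t, U.ι.injective (by rw [← Scheme.Hom.comp_apply, hg']; rfl)⟩⟩
  have hP0 : IsPullback (𝟙 T) g' g U.ι := by
    refine ⟨⟨by rw [hg', Category.id_comp]⟩, ⟨PullbackCone.IsLimit.mk _ (fun c => c.fst)
      (fun c => Category.comp_id _) (fun c => ?_) (fun c m hm _ => ?_)⟩⟩
    · rw [← cancel_mono U.ι, Category.assoc, hg']
      exact c.condition
    · exact (Category.comp_id m).symm.trans hm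
  haveI : Flat g' := MorphismProperty.of_isPullback hP0 ‹Flat g›
  haveI : LocallyOfFinitePresentation g' := MorphismProperty.of_isPullback hP0 ‹LocallyOfFinitePresentation g›
  haveI : IsSeparated g' := MorphismProperty.of_isPullback hP0 ‹IsSeparated g›
  haveI : QuasiCompact g' := MorphismProperty.of_isPullback hP0 ‹QuasiCompact g›
  haveI : LocallyQuasiFinite g' := MorphismProperty.of_isPullback hP0 ‹LocallyQuasiFinite g›
  haveI : UniversallyInjective g' := MorphismProperty.of_isPullback hP0 ‹UniversallyInjective g›
  haveI : UniversallyClosed g' := by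
    refine ⟨fun X' Y' i₁ i₂ f' hf => ?_⟩
    haveI : UniversallyInjective f' := MorphismProperty.of_isPullback hf.flip ‹_›
    haveI : Surjective f' := MorphismProperty.of_isPullback hf.flip ‹_›
    haveI : Flat f' := MorphismProperty.of_isPullback hf.flip ‹_›
    haveI : LocallyOfFinitePresentation f' := MorphismProperty.of_isPullback hf.flip ‹_›
    intro C hC
    rw [← isOpen_compl_iff, ← Set.image_compl_eq ⟨f'.injective, f'.surjective⟩]
    exact f'.isOpenMap _ hC.isOpen_compl
  haveI : IsProper g' := {}
  haveI : IsFinite g' := IsFinite.of_isProper_of_locallyQuasiFinite g'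
  haveI : IsIso g' := by
    rw [Scheme.Hom.isIso_iff_finrank_eq]
    funext y
    obtain ⟨s, hsy, hs⟩ := exists_generic y.1
    have hsU : s ∈ U := hsy.mem_open U.isOpen y.2 |> fun _ => by
      obtain ⟨t, ht, e⟩ := Flat.generalizingMap g (show s ⤳ g (g'.surjective y).choose by
        rw [← hg', Scheme.Hom.comp_apply, (g'.surjective y).choose_spec]; exact hsy)
      exact ⟨t, e⟩
    obtain ⟨x, hx⟩ := hsU
    have hy : g'.finrank y = g'.finrank (g' x) := by
      obtain ⟨V, hV, hyV, hV'⟩ :=
        (IsLocallyConstant.iff_exists_open _).mp (Scheme.Hom.isLocallyConstant_finrank g') y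
      refine (hV' (g' x) ?_).symm
      have hsp : g' x ⤳ y := by
        rw [← U.ι.isOpenEmbedding.isInducing.specializes_iff, ← Scheme.Hom.comp_apply, hg', hx]
        exact hsy
      exact hsp.mem_open hV hyV
    rw [Pi.one_apply, hy]
    haveI := hiso x (hx ▸ hs)
    let j : Spec (S.residueField (g x)) ⟶ (U : Scheme) :=
      IsOpenImmersion.lift U.ι (S.fromSpecResidueField (g x)) (by
        rintro _ ⟨w, rfl⟩
        rw [Scheme.fromSpecResidueField_apply]
        simp [U])
    have hj : j ≫ U.ι = S.fromSpecResidueField (g x) := IsOpenImmersion.lift_fac _ _ _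
    have hP : IsPullback (pullback.fst g' j) (pullback.snd g' j) g (S.fromSpecResidueField (g x)) := by
      have := (IsPullback.of_hasPullback g' j).paste_horiz hP0
      rwa [hj, Category.comp_id] at this
    haveI : IsIso (pullback.snd g' j) := by
      rw [← hP.isoPullback_hom_snd]
      infer_instance
    have hc : j (IsLocalRing.closedPoint _) = g' x := by
      apply U.ι.injective
      rw [← Scheme.Hom.comp_apply, ← Scheme.Hom.comp_apply, hj, hg',
        Scheme.fromSpecResidueField_apply]
    rw [← hc, ← Scheme.Hom.finrank_pullback_snd g' j, Scheme.Hom.finrank_eq_one_of_isIso]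
    rfl
  rw [← hg']
  infer_instance

end Groth.Agent.QfRankOne
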